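import Cfsg.Agent.H86.BaseThree.Basic
import Cfsg.Agent.H39.Colour.Five

/-! Five colourings in different orbits for every soluble group acting on a finite set. -/

set_option autoImplicit false

namespace Cfsg.Agent.H39.BaseThree

universe u

theorem colourAll : Cfsg.Agent.H86.BaseThree.ColourAll.{u} := by
  intro G _ _ Ω _ _ _ hG
  haveI := hG
  obtain ⟨c, hc⟩ := Colour.exists_good G Ω
  refine ⟨fun i ω => c ω + i, fun i j g h => ?_⟩
  obtain ⟨hd, hall⟩ := hc g (i - j) fun x => by
    rw [eq_sub_of_add_eq (h x), add_sub_assoc]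
  exact ⟨sub_eq_zero.1 hd, hall⟩

end Cfsg.Agent.H39.BaseThree
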